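import Groth.Agent.ML41.SheafLim
import Groth.Agent.Formal27.LimAcyclic
import Groth.Agent.TopCoh49.Top

/-!
The short exact sequence of cohomology of a limit of a tower of quasi-coherent modules.
-/

set_option autoImplicit false
set_option backward.isDefEq.respectTransparency.types false
set_option linter.style.haveILetI false

universe u

open CategoryTheory CategoryTheory.Limits AlgebraicGeometry Opposite TopologicalSpace

noncomputable section

namespace Groth.Agent.LimSES27

variable {X : Scheme.{u}} (G : ℕᵒᵖ ⥤ X.Modules)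

theorem preservesLimitsOfShape_toAb :
    PreservesLimitsOfShape ℕᵒᵖ (SheafOfModules.toSheaf.{u} X.ringCatSheaf) := by
  let F : X.Modules ⥤ CohTop.Ab X.toPresheafedSpace.carrier := SheafOfModules.toSheaf.{u} X.ringCatSheaf
  let P : CohTop.Ab X.toPresheafedSpace.carrier ⥤ _ :=
    sheafToPresheaf (Opens.grothendieckTopology X.toPresheafedSpace.carrier) AddCommGrpCat.{u}
  have h0 : PreservesLimitsOfSize.{0, 0} (Scheme.Modules.toPresheaf X) := preservesLimitsOfSize_shrink _
  have h1 : PreservesLimitsOfShape ℕᵒᵖ (Scheme.Modules.toPresheaf X) := h0.preservesLimitsOfShape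
  let e : Scheme.Modules.toPresheaf X ≅ F ⋙ P :=
    NatIso.ofComponents (fun M => Iso.refl _) (fun f => (Category.comp_id _).trans (Category.id_comp _).symm)
  haveI : PreservesLimitsOfShape ℕᵒᵖ (F ⋙ P) :=
    @preservesLimitsOfShape_of_natIso _ _ _ _ _ _ _ _ e h1
  exact preservesLimitsOfShape_of_reflects_of_preserves (J := ℕᵒᵖ) F P

/-- The tower of abelian sheaves. -/
def towerAb : ℕᵒᵖ ⥤ CohTop.Ab X.toPresheafedSpace.carrier := G ⋙ SheafOfModules.toSheaf.{u} X.ringCatSheaf

theorem exists_limIso : ∃ e : Coh.toAb (limit G) ≅ limit (towerAb G),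
    ∀ n : ℕ, e.hom ≫ limit.π (towerAb G) (op n) =
      (SheafOfModules.toSheaf.{u} X.ringCatSheaf).map (limit.π G (op n)) :=
  haveI := preservesLimitsOfShape_toAb (X := X)
  ⟨preservesLimitIso (SheafOfModules.toSheaf.{u} X.ringCatSheaf) G, fun n =>
    preservesLimitIso_hom_π (SheafOfModules.toSheaf.{u} X.ringCatSheaf) G (op n)⟩

theorem exists_ses (hq : ∀ n : ℕ, (G.obj (op n)).IsQuasicoherent) (he : ∀ n, Epi (Formal27.tr G n)) (p : ℕ) :
    ∃ (α : Formal2.limOne (fun n => Coh.HH X (G.obj (op n)) p) (Formal2.HHsysMap G p) →+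
        Coh.HH X (limit G) (p + 1))
      (β : Coh.HH X (limit G) (p + 1) →+
        Formal2.limZero (fun n => Coh.HH X (G.obj (op n)) (p + 1)) (Formal2.HHsysMap G (p + 1))),
      Function.Injective α ∧ Function.Surjective β ∧ α.range = β.ker ∧
      ∀ (x : Coh.HH X (limit G) (p + 1)) (n : ℕ),
        (β x : ∀ n, Coh.HH X (G.obj (op n)) (p + 1)) n =
          Sheaf.H.map ((SheafOfModules.toSheaf _).map (limit.π G (op n))) (p + 1) x := by
  let F := towerAb G
  let B : Set (Opens X.toPresheafedSpace.carrier) := {V | IsAffineOpen V}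
  obtain ⟨h1, ⟨e⟩⟩ := ML41.lim_cohomology F B X.isBasis_affineOpens
    (fun V hV n => Formal27.tr_app_surjective G hq he n hV)
    (fun V hV n i => haveI := hq n; Coh69.qcoh_subsingleton_HE (G.obj (op n)) hV i) ⊤ (p + 1) p rfl
  obtain ⟨ε, hε⟩ := exists_limIso G
  let T := fun (P : CohTop.Ab X.toPresheafedSpace.carrier) (k : ℕ) => TopCoh49.HEquivTop P k
  let L : Coh.HH X (limit G) (p + 1) ≃+ TopCoh49.E (limit F) (p + 1) ⊤ :=
    (T (Coh.toAb (limit G)) (p + 1)).trans
      { toFun := TopCoh49.emap ε.hom (p + 1) ⊤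
        invFun := TopCoh49.emap ε.inv (p + 1) ⊤
        left_inv := fun x => by
          rw [ML41.emap_comp, ε.hom_inv_id]
          exact Abelian.Ext.comp_mk₀_id x
        right_inv := fun x => by
          rw [ML41.emap_comp, ε.inv_hom_id]
          exact Abelian.Ext.comp_mk₀_id x
        map_add' := map_add _ }
  have hL : ∀ (x : Coh.HH X (limit G) (p + 1)) (n : ℕ),
      TopCoh49.emap (limit.π F (op n)) (p + 1) ⊤ (L x) =
        T (Coh.toAb (G.obj (op n))) (p + 1)
          (Sheaf.H.map ((SheafOfModules.toSheaf.{u} X.ringCatSheaf).map (limit.π G (op n))) (p + 1) x) := by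
    intro x n
    change TopCoh49.emap (limit.π F (op n)) (p + 1) ⊤ (TopCoh49.emap ε.hom (p + 1) ⊤ _) = _
    rw [ML41.emap_comp, hε n]
    exact (TopCoh49.HEquivTop_map _ (p + 1) x).symm
  let pr : Coh.HH X (limit G) (p + 1) →+ ∀ n, Coh.HH X (G.obj (op n)) (p + 1) :=
    AddMonoidHom.pi fun n => Sheaf.H.map ((SheafOfModules.toSheaf.{u} X.ringCatSheaf).map (limit.π G (op n))) (p + 1)
  have hpr : ∀ x, pr x ∈ Formal2.limZero (fun n => Coh.HH X (G.obj (op n)) (p + 1)) (Formal2.HHsysMap G (p + 1)) := by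
    intro x
    refine funext fun n => ?_
    show pr x n - Formal2.HHsysMap G (p + 1) n (pr x (n + 1)) = 0
    rw [sub_eq_zero]
    apply (T (Coh.toAb (G.obj (op n))) (p + 1)).injective
    refine (hL x n).symm.trans (Eq.trans ?_ (TopCoh49.HEquivTop_map _ (p + 1) _).symm)
    refine Eq.trans ?_ (congrArg (TopCoh49.emap _ (p + 1) ⊤) (hL x (n + 1)))
    refine Eq.trans ?_ (ML41.emap_comp _ _ _ _ _).symm
    exact congrArg (fun f => TopCoh49.emap f (p + 1) ⊤ (L x)) (limit.w F (homOfLE (Nat.le_succ n)).op).symm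
  let β := AddMonoidHom.codRestrict pr _ hpr
  let K := (AddMonoidHom.pi fun n : ℕ => TopCoh49.emap (limit.π F (op n)) (p + 1) (⊤ : Opens X.toPresheafedSpace.carrier)).ker
  have hK : ∀ x, L x ∈ K ↔ β x = 0 := fun x => by
    constructor
    · intro h
      refine Subtype.ext (funext fun n => ?_)
      apply (T (Coh.toAb (G.obj (op n))) (p + 1)).injective
      exact ((hL x n).symm.trans (congrFun h n)).trans (map_zero _).symm
    · intro h
      refine funext fun n => (hL x n).trans ?_
      exact (congrArg (T (Coh.toAb (G.obj (op n))) (p + 1))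
        (congrFun (congrArg Subtype.val h) n)).trans (map_zero _)
  let Tp : (∀ n, Coh.HH X (G.obj (op n)) p) ≃+ (∀ n, TopCoh49.E (ML41.obF F n) p ⊤) :=
    AddEquiv.piCongrRight fun n => T (Coh.toAb (G.obj (op n))) p
  have hT : ((Formal2.towerDiff _ (Formal2.HHsysMap G p)).range).map Tp.toAddMonoidHom =
      (Formal2.towerDiff _ (ML41.eTr F p ⊤)).range := by
    have key : ∀ v, Tp (Formal2.towerDiff _ (Formal2.HHsysMap G p) v) =
        Formal2.towerDiff _ (ML41.eTr F p ⊤) (Tp v) := fun v => funext fun n =>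
      (map_sub (T (Coh.toAb (G.obj (op n))) p) _ _).trans
        (congrArg (_ - ·) (TopCoh49.HEquivTop_map _ p (v (n + 1))))
    ext w
    constructor
    · rintro ⟨_, ⟨v, rfl⟩, rfl⟩
      exact ⟨Tp v, (key v).symm⟩
    · rintro ⟨v, rfl⟩
      exact ⟨_, ⟨Tp.symm v, rfl⟩, (key _).trans (congrArg _ (Tp.apply_symm_apply v))⟩
  let e' : Formal2.limOne (fun n => Coh.HH X (G.obj (op n)) p) (Formal2.HHsysMap G p) ≃+ K :=
    (QuotientAddGroup.congr _ _ Tp hT).trans e.symm
  let α := L.symm.toAddMonoidHom.comp (K.subtype.comp e'.toAddMonoidHom)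
  refine ⟨α, β, ?_, ?_, ?_, fun x n => rfl⟩
  · exact L.symm.injective.comp (Subtype.val_injective.comp e'.injective)
  · intro y
    obtain ⟨η, hη⟩ := h1 (fun n => T (Coh.toAb (G.obj (op n))) (p + 1) (y.1 n)) fun n =>
      (TopCoh49.HEquivTop_map _ (p + 1) (y.1 (n + 1))).symm.trans
        (congrArg (T (Coh.toAb (G.obj (op n))) (p + 1)) (sub_eq_zero.1 (congrFun y.2 n)).symm)
    refine ⟨L.symm η, Subtype.ext (funext fun n => ?_)⟩
    apply (T (Coh.toAb (G.obj (op n))) (p + 1)).injective
    exact (hL _ n).symm.trans ((congrArg _ (L.apply_symm_apply η)).trans (hη n))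
  · ext x
    rw [AddMonoidHom.mem_ker, ← hK]
    constructor
    · rintro ⟨c, rfl⟩
      change L (L.symm (e' c).1) ∈ K
      rw [L.apply_symm_apply]
      exact (e' c).2
    · intro h
      refine ⟨e'.symm ⟨L x, h⟩, ?_⟩
      change L.symm (e' (e'.symm _)).1 = x
      rw [e'.apply_symm_apply]
      exact L.symm_apply_apply x

end Groth.Agent.LimSES27
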